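import Groth.Prelude.Def_W4c2invhilbsl2
import Mathlib.LinearAlgebra.Dimension.FreeAndStrongRankCondition
import Mathlib.LinearAlgebra.Basis.VectorSpace
import Mathlib.Tactic.LinearCombination
import Mathlib.Tactic.Linarith
import Mathlib.Tactic.Ring

set_option autoImplicit false

namespace Groth.Agent.Hilb2Inv37

open MvPolynomial W4c2invhilbsl2

section Gen

variable {σ : Type*} {k : Type*} {M : Type*} [AddCommMonoid M]

theorem whs_le [CommRing k] {w : σ → M} {ν : M} {S : Submodule k (MvPolynomial σ k)}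
    (h : ∀ d : σ →₀ ℕ, Finsupp.weight w d = ν → monomial d (1 : k) ∈ S) :
    weightedHomogeneousSubmodule k w ν ≤ S := by
  intro f hf
  rw [f.as_sum]
  refine Submodule.sum_mem _ fun d hd => ?_
  have h1 : monomial d (coeff d f) = coeff d f • monomial d (1 : k) := by
    rw [smul_monomial, smul_eq_mul, mul_one]
  rw [h1]
  exact Submodule.smul_mem _ _ (h d (hf (mem_support_iff.mp hd)))

theorem piece_rank_le_one [Field k] {w : σ → M} {ν : M} {I : Ideal (MvPolynomial σ k)}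
    (v : MvPolynomial σ k ⧸ I)
    (h : ∀ d : σ →₀ ℕ, Finsupp.weight w d = ν →
      Ideal.Quotient.mk I (monomial d (1 : k)) ∈ Submodule.span k {v}) :
    Module.rank k (piece k w I ν) ≤ 1 := by
  rw [rank_submodule_le_one_iff']
  refine ⟨v, ?_⟩
  rw [piece, Submodule.map_le_iff_le_comap]
  exact whs_le fun d hd => h d hd

theorem mul_mem_whs [CommRing k] {w : σ → M} {μ ν : M} {a b : MvPolynomial σ k}
    (ha : a ∈ weightedHomogeneousSubmodule k w μ) (hb : b ∈ weightedHomogeneousSubmodule k w ν) :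
    a * b ∈ weightedHomogeneousSubmodule k w (μ + ν) :=
  IsWeightedHomogeneous.mul ha hb

theorem monomial_mem_whs [CommRing k] {w : σ → M} {μ : M} {d : σ →₀ ℕ}
    (h : Finsupp.weight w d = μ) : monomial d (1 : k) ∈ weightedHomogeneousSubmodule k w μ :=
  isWeightedHomogeneous_monomial w d 1 h

end Gen

theorem wt3_weight (p q m : ℕ) (d : Fin 3 →₀ ℕ) :
    Finsupp.weight (wt3 p q m) d =
      (((d 0 : ℤ) - p * d 1 + q * d 2, ((((d 2 : ℤ) - d 1) : ℤ) : ZMod m))) := by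
  rw [Finsupp.weight_eq_sum, Fin.sum_univ_three]
  refine Prod.ext ?_ ?_
  · simp [wt3]; ring
  · simp [wt3]; ring

theorem wt5_weight (p q m : ℕ) (d : Fin 5 →₀ ℕ) :
    Finsupp.weight (wt5 p q m) d =
      (((d 0 : ℤ) - p * (d 1 + d 2) + q * (d 3 + d 4),
        ((((d 3 : ℤ) + d 4 - (d 1 + d 2)) : ℤ) : ZMod m))) := by
  rw [Finsupp.weight_eq_sum, Fin.sum_univ_five]
  refine Prod.ext ?_ ?_
  · simp [wt5]; ring
  · simp [wt5]; ring

theorem monomial3 {k : Type*} [CommRing k] (d : Fin 3 →₀ ℕ) :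
    monomial d (1 : k) = X 0 ^ d 0 * X 1 ^ d 1 * X 2 ^ d 2 := by
  rw [monomial_eq, C_1, one_mul, Finsupp.prod_fintype _ _ (fun i => pow_zero _), Fin.prod_univ_three]

theorem monomial5 {k : Type*} [CommRing k] (d : Fin 5 →₀ ℕ) :
    monomial d (1 : k) = X 0 ^ d 0 * X 1 ^ d 1 * X 2 ^ d 2 * X 3 ^ d 3 * X 4 ^ d 4 := by
  rw [monomial_eq, C_1, one_mul, Finsupp.prod_fintype _ _ (fun i => pow_zero _), Fin.prod_univ_five]

section Rel

variable {A : Type*} [CommRing A] {x y z : A} {p q : ℕ}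

/-- In a ring where `x ^ (q - p) = y * z`, a monomial only depends on the pair (n, c). -/
theorem mono_congr (hpq : p < q) (hr : x ^ (q - p) = y * z) {d0 d1 d2 e0 e1 e2 : ℕ}
    (hn : (e0 : ℤ) - p * e1 + q * e2 = (d0 : ℤ) - p * d1 + q * d2)
    (hc : (e1 : ℤ) - e2 = (d1 : ℤ) - d2) :
    x ^ d0 * y ^ d1 * z ^ d2 = x ^ e0 * y ^ e1 * z ^ e2 := by
  have key : ∀ a0 a1 a2 j : ℕ, x ^ (a0 + j * (q - p)) * y ^ a1 * z ^ a2 =
      x ^ a0 * y ^ (a1 + j) * z ^ (a2 + j) := by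
    intro a0 a1 a2 j
    rw [pow_add, mul_comm j, pow_mul, hr, mul_pow, pow_add, pow_add]; ring
  have hD : ((q - p : ℕ) : ℤ) = (q : ℤ) - p := by push_cast [hpq.le]; rfl
  rcases Nat.le_total d2 e2 with h | h
  · obtain ⟨j, rfl⟩ := Nat.exists_eq_add_of_le h
    have h1 : e1 = d1 + j := by push_cast at hc; omega
    subst h1
    have h0 : (d0 : ℤ) = ((e0 + j * (q - p) : ℕ) : ℤ) := by push_cast [hpq.le] at hn ⊢; linarith
    rw [Nat.cast_inj] at h0
    rw [h0, key]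
  · obtain ⟨j, rfl⟩ := Nat.exists_eq_add_of_le h
    have h1 : d1 = e1 + j := by push_cast at hc; omega
    subst h1
    have h0 : (e0 : ℤ) = ((d0 + j * (q - p) : ℕ) : ℤ) := by push_cast [hpq.le] at hn ⊢; linarith
    rw [Nat.cast_inj] at h0
    rw [h0, key]

/-- Raising c by a multiple of m multiplies by a power of `x ^ (m p) * y ^ m`. -/
theorem mono_shift (hpq : p < q) (hr : x ^ (q - p) = y * z) (m : ℕ) (j : ℕ)
    {d0 d1 d2 e0 e1 e2 : ℕ}
    (hn : (e0 : ℤ) - p * e1 + q * e2 = (d0 : ℤ) - p * d1 + q * d2)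
    (hc : (d1 : ℤ) - d2 = (e1 : ℤ) - e2 + m * j) :
    x ^ d0 * y ^ d1 * z ^ d2 = x ^ e0 * y ^ e1 * z ^ e2 * (x ^ (m * p) * y ^ m) ^ j := by
  rw [mono_congr hpq hr (e0 := e0 + m * p * j) (e1 := e1 + m * j) (e2 := e2)
    (by push_cast; linarith) (by push_cast; linarith)]
  rw [pow_add, pow_add, mul_pow, ← pow_mul, ← pow_mul]; ring

/-- Same residue, `d0, e0 < g`: multiply by a power of `y ^ (a q) * z ^ (a p)`. -/
theorem small_d0 (hpq : p < q) (hcop : Nat.Coprime p q) {m g a b : ℕ} (hg : 0 < g)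
    (hm : m = g * a) (hb : q - p = g * b) (hab : Nat.Coprime a b) {d0 d1 d2 e0 e1 e2 : ℕ}
    (hd : d0 < g) (he : e0 < g)
    (hn : (e0 : ℤ) - p * e1 + q * e2 = (d0 : ℤ) - p * d1 + q * d2)
    (hc : (m : ℤ) ∣ ((d1 : ℤ) - d2) - ((e1 : ℤ) - e2)) :
    d0 = e0 ∧ ∃ i : ℤ, ((d1 : ℤ) - d2) - ((e1 : ℤ) - e2) = (m : ℤ) * b * i ∧
      (d1 : ℤ) = e1 + i * (a * q : ℕ) ∧ (d2 : ℤ) = e2 + i * (a * p : ℕ) := by
  obtain ⟨j, hj⟩ := hc
  have hD : (q : ℤ) - p = (g : ℤ) * b := by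
    have h := congrArg (Nat.cast : ℕ → ℤ) hb
    push_cast [hpq.le] at h
    linarith
  have hmZ : (m : ℤ) = (g : ℤ) * a := by exact_mod_cast hm
  have key : (d0 : ℤ) - e0 = (g : ℤ) * (p * a * j - b * (d2 - e2)) := by
    linear_combination (-1 : ℤ) * hn + (p : ℤ) * hj - ((d2 : ℤ) - e2) * hD + (p : ℤ) * j * hmZ
  have heq : d0 = e0 := by
    have h1 : (g : ℤ) ∣ (d0 : ℤ) - e0 := ⟨_, key⟩
    have h2 := Int.eq_zero_of_abs_lt_dvd h1 (by rw [abs_lt]; constructor <;> omega)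
    omega
  refine ⟨heq, ?_⟩
  have h2 : (p : ℤ) * a * j = b * ((d2 : ℤ) - e2) := by
    have : (g : ℤ) * (p * a * j - b * (d2 - e2)) = 0 := by rw [← key, heq]; ring
    rcases mul_eq_zero.mp this with h | h
    · omega
    · linarith
  have hbp : Nat.Coprime b p := by
    have h1 : Nat.Coprime (q - p) p := by
      rw [Nat.coprime_sub_self_left hpq.le]; exact hcop.symm
    exact Nat.Coprime.coprime_dvd_left (Dvd.intro_left g hb.symm) h1
  have hbpa : IsCoprime (b : ℤ) ((p * a : ℕ) : ℤ) :=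
    Nat.isCoprime_iff_coprime.mpr (Nat.Coprime.mul_right hbp hab.symm)
  have hbj : (b : ℤ) ∣ j := hbpa.dvd_of_dvd_mul_left ⟨(d2 : ℤ) - e2, by push_cast; exact h2⟩
  obtain ⟨i, rfl⟩ := hbj
  have hb0 : 0 < b := by
    rcases Nat.eq_zero_or_pos b with h | h
    · subst h; omega
    · exact h
  have h3 : (d2 : ℤ) - e2 = (p : ℤ) * a * i := by
    apply mul_left_cancel₀ (show (b : ℤ) ≠ 0 by omega)
    linear_combination (-1 : ℤ) * h2
  refine ⟨i, by rw [hj]; ring, ?_, by push_cast; linarith⟩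
  push_cast
  linear_combination hj + h3 - (a : ℤ) * i * hD + (b : ℤ) * i * hmZ

theorem small_pow {d0 d1 d2 e0 e1 e2 u v : ℕ} {i : ℤ} (h0 : d0 = e0) (hi : 0 ≤ i)
    (h1 : (d1 : ℤ) = e1 + i * u) (h2 : (d2 : ℤ) = e2 + i * v) :
    x ^ d0 * y ^ d1 * z ^ d2 = x ^ e0 * y ^ e1 * z ^ e2 * (y ^ u * z ^ v) ^ i.toNat := by
  have e1' : d1 = e1 + i.toNat * u := by
    have : (d1 : ℤ) = ((e1 + i.toNat * u : ℕ) : ℤ) := by
      push_cast [Int.toNat_of_nonneg hi]; exact h1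
    exact_mod_cast this
  have e2' : d2 = e2 + i.toNat * v := by
    have : (d2 : ℤ) = ((e2 + i.toNat * v : ℕ) : ℤ) := by
      push_cast [Int.toNat_of_nonneg hi]; exact h2
    exact_mod_cast this
  rw [e1', e2', h0, pow_add, pow_add, mul_pow, ← pow_mul, ← pow_mul, mul_comm i.toNat,
    mul_comm i.toNat]
  ring

end Rel

end Groth.Agent.Hilb2Inv37
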