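import Groth.Prelude.Def_W4c2invhilbsl2HJ
import Mathlib.Tactic.LinearCombination
import Mathlib.Tactic.Linarith
import Mathlib.Tactic.FieldSimp
import Mathlib.Tactic.Ring
import Mathlib.RingTheory.Coprime.Lemmas

set_option autoImplicit false

namespace Groth.Agent.Hilb2Inv37

open W4c2invhilbsl2

theorem one_lt_hjVal : ∀ {l : List ℤ}, l ≠ [] → (∀ x ∈ l, (2 : ℤ) ≤ x) → (1 : ℚ) < HJFrac.hjVal l := by
  intro l
  induction l with
  | nil => intro h; exact absurd rfl h
  | cons c l ih =>
    intro _ h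
    have hc : (2 : ℚ) ≤ c := by exact_mod_cast h c (by simp)
    rcases eq_or_ne l [] with rfl | hl
    · simp [HJFrac.hjVal]; linarith
    · have h1 := ih hl (fun x hx => h x (by simp [hx]))
      have h2 : (HJFrac.hjVal l)⁻¹ < 1 := inv_lt_one_of_one_lt₀ h1
      simp only [HJFrac.hjVal]; linarith

theorem hj_chain : ∀ (l : List ℤ) (B T : ℤ) (s : ℕ → ℤ), (∀ x ∈ l, (2 : ℤ) ≤ x) → l ≠ [] →
    0 < T → IsCoprime B T → HJFrac.hjVal l = (B : ℚ) / T → s 0 = B → s 1 = T →
    (∀ i, i < l.length → s (i + 2) = l.getD i 0 * s (i + 1) - s i) →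
    (∀ i, i ≤ l.length → s (i + 1) < s i) ∧ s l.length = 1 ∧ s (l.length + 1) = 0 := by
  intro l
  induction l with
  | nil => intro B T s _ h; exact absurd rfl h
  | cons c l ih =>
    intro B T s hl hne hT hcop hv h0 h1 hrec
    have hgt := one_lt_hjVal hne hl
    have hTQ : (0 : ℚ) < T := by exact_mod_cast hT
    rw [hv, lt_div_iff₀ hTQ, one_mul] at hgt
    have hgt' : T < B := by exact_mod_cast hgt
    have hr0 : s 2 = c * T - B := by
      rw [hrec 0 (by simp), h0, h1]; simp
    rcases eq_or_ne l [] with rfl | hl'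
    · simp only [HJFrac.hjVal, inv_zero, sub_zero] at hv
      rw [eq_div_iff hTQ.ne'] at hv
      have hB : c * T = B := by exact_mod_cast hv
      have hu : IsUnit T := hcop.isUnit_of_dvd' ⟨c, by rw [← hB, mul_comm]⟩ dvd_rfl
      rcases Int.isUnit_iff.mp hu with hT1 | hT1
      · refine ⟨?_, ?_, ?_⟩
        · intro i hi
          rcases i with _ | _ | i
          · rw [h0, h1]; exact hgt'
          · rw [hr0, h1]; omega
          · simp at hi
        · simp [h1, hT1]
        · simp [hr0, hB]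
      · omega
    · have hlt : ∀ x ∈ l, (2 : ℤ) ≤ x := fun x hx => hl x (by simp [hx])
      have hv1 := one_lt_hjVal hl' hlt
      have hv0 : (0 : ℚ) < HJFrac.hjVal l := lt_trans zero_lt_one hv1
      simp only [HJFrac.hjVal] at hv
      have hinv : (HJFrac.hjVal l)⁻¹ = ((c * T - B : ℤ) : ℚ) / T := by
        push_cast
        rw [sub_div, mul_div_assoc, div_self hTQ.ne', mul_one]; linarith
      have hpos : 0 < c * T - B := by
        have : (0 : ℚ) < ((c * T - B : ℤ) : ℚ) / T := by rw [← hinv]; positivity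
        rw [div_pos_iff_of_pos_right hTQ] at this
        exact_mod_cast this
      have hcop' : IsCoprime T (c * T - B) := by
        have h2 : IsCoprime T (-B) := hcop.symm.neg_right
        have := h2.add_mul_left_right c
        rwa [show -B + T * c = c * T - B by ring] at this
      have hval : HJFrac.hjVal l = (T : ℚ) / ((c * T - B : ℤ) : ℚ) := by
        rw [← inv_inv (HJFrac.hjVal l), hinv, inv_div]
      obtain ⟨hd, hr, hr1⟩ := ih T (c * T - B) (fun i => s (i + 1)) hlt hl' hpos hcop' hval h1 hr0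
        (fun i hi => by
          have := hrec (i + 1) (by simp; omega)
          simpa using this)
      refine ⟨?_, by simpa using hr, by simpa using hr1⟩
      intro i hi
      rcases i with _ | i
      · rw [h0, h1]; exact hgt'
      · exact hd i (by simpa using hi)

section Params

variable {p q m : ℕ}

/-- `tT P - bB Q`. -/
noncomputable def sT (p q m : ℕ) (c : List ℤ) (i : ℕ) : ℤ :=
  (tT p q m : ℤ) * hjP c i - (bB p q m : ℤ) * hjQ c i

theorem gcdK_pos (hm : 0 < m) : 0 < gcdK p q m := Nat.gcd_pos_of_pos_left _ hm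

theorem sub_eq_gb : q - p = gcdK p q m * bB p q m :=
  (Nat.mul_div_cancel' (Nat.gcd_dvd_right m (q - p))).symm

theorem subZ_eq_gb (hpq : p < q) : (q : ℤ) - p = (gcdK p q m : ℤ) * bB p q m := by
  have h := congrArg (Nat.cast : ℕ → ℤ) (sub_eq_gb (p := p) (q := q) (m := m))
  push_cast [hpq.le] at h
  exact h

theorem bB_pos (hpq : p < q) : 0 < bB p q m := by
  rcases Nat.eq_zero_or_pos (bB p q m) with h | h
  · have := sub_eq_gb (p := p) (q := q) (m := m); rw [h] at this; omega
  · exact h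

theorem m_eq_ga : m = gcdK p q m * (m / gcdK p q m) :=
  (Nat.mul_div_cancel' (Nat.gcd_dvd_left m (q - p))).symm

theorem coprime_ab (hm : 0 < m) : Nat.Coprime (m / gcdK p q m) (bB p q m) :=
  Nat.coprime_div_gcd_div_gcd (gcdK_pos hm)

theorem g_dvd_rem : gcdK p q m ∣ m * p % (q - p) :=
  (Nat.dvd_mod_iff (Nat.gcd_dvd_right m (q - p))).mpr (Dvd.dvd.mul_right (Nat.gcd_dvd_left _ _) _)

theorem g_mul_tT (hpq : p < q) :
    (gcdK p q m : ℤ) * tT p q m = (q : ℤ) - p - ((m * p % (q - p) : ℕ) : ℤ) := by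
  have h : gcdK p q m * tT p q m = q - p - m * p % (q - p) :=
    Nat.mul_div_cancel' (Nat.dvd_sub (Nat.gcd_dvd_right _ _) g_dvd_rem)
  have hlt : m * p % (q - p) < q - p := Nat.mod_lt _ (by omega)
  have h' := congrArg (Nat.cast : ℕ → ℤ) h
  rw [Nat.cast_mul, Nat.cast_sub hlt.le, Nat.cast_sub hpq.le] at h'
  exact h'

theorem pm_eq (hpq : p < q) :
    (p : ℤ) * m = ((alpha p q m : ℤ) + 1) * ((q : ℤ) - p) - (gcdK p q m : ℤ) * tT p q m := by
  have h : m * p = (q - p) * alpha p q m + m * p % (q - p) := (Nat.div_add_mod _ _).symm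
  have h' := congrArg (Nat.cast : ℕ → ℤ) h
  rw [Nat.cast_add, Nat.cast_mul, Nat.cast_mul, Nat.cast_sub hpq.le] at h'
  rw [g_mul_tT hpq]; linear_combination h'

theorem tT_pos (hpq : p < q) : 0 < tT p q m := by
  have h := g_mul_tT (p := p) (q := q) (m := m) hpq
  have hlt : m * p % (q - p) < q - p := Nat.mod_lt _ (by omega)
  rcases Nat.eq_zero_or_pos (tT p q m) with h0 | h0
  · rw [h0, Nat.cast_zero, mul_zero] at h
    have h' : ((m * p % (q - p) : ℕ) : ℤ) < ((q - p : ℕ) : ℤ) := Nat.cast_lt.mpr hlt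
    rw [Nat.cast_sub hpq.le] at h'
    linarith
  · exact h0

theorem tT_lt_bB (hpq : p < q) (hcop : Nat.Coprime p q) (hm : 0 < m) (hnt : ¬ (q - p ∣ m)) :
    tT p q m < bB p q m := by
  have h1 := g_mul_tT (p := p) (q := q) (m := m) hpq
  rw [subZ_eq_gb (m := m) hpq] at h1
  have hβ : 0 < m * p % (q - p) := by
    rcases Nat.eq_zero_or_pos (m * p % (q - p)) with h | h
    · exfalso
      apply hnt
      refine (Nat.Coprime.dvd_of_dvd_mul_right ?_ (Nat.dvd_of_mod_eq_zero h))
      rw [Nat.coprime_sub_self_left hpq.le]; exact hcop.symm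
    · exact h
  have h2 : (gcdK p q m : ℤ) * tT p q m < (gcdK p q m : ℤ) * bB p q m := by
    rw [h1]
    have : (0 : ℤ) < ((m * p % (q - p) : ℕ) : ℤ) := Int.natCast_pos.mpr hβ
    linarith [subZ_eq_gb (p := p) (q := q) (m := m) hpq]
  exact_mod_cast lt_of_mul_lt_mul_left h2 (by omega)

theorem coprime_bt (hpq : p < q) (hcop : Nat.Coprime p q) (hm : 0 < m) :
    IsCoprime (bB p q m : ℤ) (tT p q m : ℤ) := by
  have hbp : Nat.Coprime (bB p q m) p := by
    have h1 : Nat.Coprime (q - p) p := by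
      rw [Nat.coprime_sub_self_left hpq.le]; exact hcop.symm
    exact Nat.Coprime.coprime_dvd_left (Dvd.intro_left _ sub_eq_gb.symm) h1
  have h2 : IsCoprime (bB p q m : ℤ) ((p * (m / gcdK p q m) : ℕ) : ℤ) :=
    Nat.isCoprime_iff_coprime.mpr (Nat.Coprime.mul_right hbp (coprime_ab hm).symm)
  have h3 : (tT p q m : ℤ) = -((p * (m / gcdK p q m) : ℕ) : ℤ) +
      (bB p q m : ℤ) * ((alpha p q m : ℤ) + 1) := by
    have hg : (gcdK p q m : ℤ) ≠ 0 := by have := gcdK_pos (p := p) (q := q) hm; omega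
    apply mul_left_cancel₀ hg
    have hmz : (m : ℤ) = (gcdK p q m : ℤ) * ((m / gcdK p q m : ℕ) : ℤ) := by
      exact_mod_cast m_eq_ga
    rw [Nat.cast_mul]
    linear_combination (pm_eq (m := m) hpq) - (p : ℤ) * hmz +
      ((alpha p q m : ℤ) + 1) * subZ_eq_gb (m := m) hpq
  rw [h3]
  exact h2.neg_right.add_mul_left_right _

theorem nN_eq (hpq : p < q) (c : List ℤ) (i : ℕ) :
    nN p q m c i = (gcdK p q m : ℤ) * sT p q m c i := by
  have h1 := pm_eq (p := p) (q := q) (m := m) hpq
  have h2 := subZ_eq_gb (p := p) (q := q) (m := m) hpq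
  simp only [nN, eE, lL, sT]
  push_cast
  linear_combination (-(hjP c i)) * h1 - hjQ c i * h2

theorem sT_zero (c : List ℤ) : sT p q m c 0 = bB p q m := by simp [sT, hjP, hjQ]

theorem sT_one (c : List ℤ) : sT p q m c 1 = tT p q m := by simp [sT, hjP, hjQ]

theorem sT_succ_succ (c : List ℤ) (i : ℕ) :
    sT p q m c (i + 2) = c.getD i 0 * sT p q m c (i + 1) - sT p q m c i := by
  simp only [sT, hjP, hjQ]; ring

theorem sT_props (hpq : p < q) (hcop : Nat.Coprime p q) (hm : 0 < m) {c : List ℤ}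
    (hc : IsHJDigits p q m c) :
    (∀ i, i ≤ c.length → sT p q m c (i + 1) < sT p q m c i) ∧
      sT p q m c c.length = 1 ∧ sT p q m c (c.length + 1) = 0 := by
  have hb := bB_pos (p := p) (q := q) (m := m) hpq
  have ht := tT_pos (p := p) (q := q) (m := m) hpq
  refine hj_chain c (bB p q m) (tT p q m) _ hc.1 ?_ (by exact_mod_cast ht)
    (coprime_bt hpq hcop hm) (by rw [hc.2]; push_cast; rfl) (sT_zero c) (sT_one c)
    (fun i _ => sT_succ_succ c i)
  rintro rfl
  have := hc.2
  simp only [HJFrac.hjVal] at this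
  have hpos : (0 : ℚ) < (bB p q m : ℚ) / (tT p q m : ℚ) := by positivity
  linarith

theorem sT_antitone (hpq : p < q) (hcop : Nat.Coprime p q) (hm : 0 < m) {c : List ℤ}
    (hc : IsHJDigits p q m c) {i j : ℕ} (hij : i ≤ j) (hj : j ≤ c.length + 1) :
    sT p q m c j ≤ sT p q m c i := by
  induction hij with
  | refl => exact le_rfl
  | @step k _ ih =>
    have := (sT_props hpq hcop hm hc).1 k (by omega)
    have := ih (by omega)
    show sT p q m c (k + 1) ≤ _
    omega

theorem sT_pos (hpq : p < q) (hcop : Nat.Coprime p q) (hm : 0 < m) {c : List ℤ}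
    (hc : IsHJDigits p q m c) {i : ℕ} (hi : i ≤ c.length) : 0 < sT p q m c i := by
  have h := sT_antitone hpq hcop hm hc hi (by omega : c.length ≤ c.length + 1)
  rw [(sT_props hpq hcop hm hc).2.1] at h
  omega

theorem sT_lt_b (hpq : p < q) (hcop : Nat.Coprime p q) (hm : 0 < m) {c : List ℤ}
    (hc : IsHJDigits p q m c) {i : ℕ} (hi : 1 ≤ i) (hir : i ≤ c.length + 1) :
    sT p q m c i < bB p q m := by
  have h := sT_antitone hpq hcop hm hc hi hir
  have h2 := (sT_props hpq hcop hm hc).1 0 (Nat.zero_le _)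
  rw [sT_zero] at h2
  exact lt_of_le_of_lt h h2

theorem hjPQ_det (c : List ℤ) : ∀ i, hjQ c (i + 1) * hjP c i - hjQ c i * hjP c (i + 1) = 1 := by
  intro i
  induction i with
  | zero => simp [hjP, hjQ]
  | succ i ih => simp only [hjP, hjQ]; linear_combination ih

theorem hjP_mono {c : List ℤ} (hc : ∀ x ∈ c, (2 : ℤ) ≤ x) :
    ∀ i, i ≤ c.length → 0 ≤ hjP c i ∧ hjP c i < hjP c (i + 1) := by
  intro i
  induction i with
  | zero => intro _; simp [hjP]
  | succ i ih =>
    intro hi
    obtain ⟨h0, h1⟩ := ih (by omega)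
    refine ⟨by omega, ?_⟩
    have h2 : (2 : ℤ) ≤ c.getD i 0 := by
      rw [List.getD_eq_getElem _ _ (by omega)]; exact hc _ (List.getElem_mem _)
    simp only [hjP]
    nlinarith [mul_le_mul_of_nonneg_right h2 (show 0 ≤ hjP c (i + 1) by omega)]

/-- Best approximation property of the continued fraction. -/
theorem emod_bounds (hpq : p < q) (hcop : Nat.Coprime p q) (hm : 0 < m) {c : List ℤ}
    (hc : IsHJDigits p q m c) {i : ℕ} (hi : 1 < i) (hir : i ≤ c.length)
    {x : ℤ} (hx0 : 0 < x) (hx : x < hjP c i) :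
    sT p q m c (i - 1) ≤ Int.emod ((tT p q m : ℤ) * x) (bB p q m) ∧
      Int.emod ((tT p q m : ℤ) * x) (bB p q m) ≤
        (bB p q m : ℤ) + sT p q m c i - sT p q m c (i - 1) := by
  obtain ⟨j, rfl⟩ : ∃ j, i = j + 1 := ⟨i - 1, by omega⟩
  simp only [Nat.add_sub_cancel]
  set b : ℤ := (bB p q m : ℤ) with hb
  set t : ℤ := (tT p q m : ℤ) with ht
  have hbpos : 0 < b := by have := bB_pos (p := p) (q := q) (m := m) hpq; omega
  have hTj : 0 < sT p q m c (j + 1) := sT_pos hpq hcop hm hc hir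
  have hTlt : sT p q m c (j + 1) < sT p q m c j := (sT_props hpq hcop hm hc).1 j (by omega)
  obtain ⟨hP0, hPlt⟩ := hjP_mono hc.1 j (by omega)
  have hdet := hjPQ_det c j
  have lower : ∀ y, 0 < y → y < hjP c (j + 1) → sT p q m c j ≤ (t * y) % b := by
    intro y hy0 hy
    set ρ := (t * y) % b with hρdef
    set k := (t * y) / b
    have hρ : t * y = b * k + ρ := (Int.mul_ediv_add_emod _ _).symm
    have hρ0 : 0 ≤ ρ := Int.emod_nonneg _ hbpos.ne'
    set u := hjQ c (j + 1) * y - hjP c (j + 1) * k with hu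
    set w := -(hjQ c j * y - hjP c j * k) with hw
    have hy' : u * hjP c j + w * hjP c (j + 1) = y := by
      rw [hu, hw]; linear_combination y * hdet
    have hρ' : u * sT p q m c j + w * sT p q m c (j + 1) = ρ := by
      rw [hu, hw]; simp only [sT, ← hb, ← ht]
      linear_combination (t * y - b * k) * hdet + hρ
    have hu1 : 0 < u := by
      by_contra hcon
      push Not at hcon
      rcases lt_or_eq_of_le hcon with hu0 | hu0
      · rcases le_or_gt w 0 with hw0 | hw0
        · linarith [mul_nonpos_of_nonpos_of_nonneg hcon hP0,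
            mul_nonpos_of_nonpos_of_nonneg hw0 (show 0 ≤ hjP c (j + 1) by omega)]
        · rcases le_or_gt (-u) (w - 1) with h | h
          · linarith [mul_le_mul_of_nonneg_right (show -(w - 1) ≤ u by omega) hP0,
              mul_nonneg (show 0 ≤ w - 1 by omega) (show 0 ≤ hjP c (j + 1) - hjP c j by omega)]
          · linarith [mul_le_mul_of_nonneg_right (show w ≤ -u by omega) hTj.le,
              mul_neg_of_neg_of_pos hu0 (show 0 < sT p q m c j - sT p q m c (j + 1) by omega)]
      · rw [hu0, zero_mul, zero_add] at hy'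
        rcases le_or_gt w 0 with hw0 | hw0
        · linarith [mul_nonpos_of_nonpos_of_nonneg hw0 (show 0 ≤ hjP c (j + 1) by omega)]
        · linarith [mul_nonneg (show 0 ≤ w - 1 by omega) (show 0 ≤ hjP c (j + 1) by omega)]
    have hw0 : w ≤ 0 := by
      by_contra hcon
      push Not at hcon
      linarith [mul_nonneg hu1.le hP0,
        mul_nonneg (show 0 ≤ w - 1 by omega) (show 0 ≤ hjP c (j + 1) by omega)]
    have huw : -w ≤ u - 1 := by
      by_contra hcon
      push Not at hcon
      linarith [mul_le_mul_of_nonneg_right (show w ≤ -u by omega) (show 0 ≤ hjP c (j + 1) by omega),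
        mul_nonneg hu1.le (show 0 ≤ hjP c (j + 1) - hjP c j by omega)]
    linarith [mul_le_mul_of_nonneg_right huw (show 0 ≤ sT p q m c j by omega),
      mul_nonneg (show 0 ≤ -w by omega) (show 0 ≤ sT p q m c j - sT p q m c (j + 1) by omega)]
  refine ⟨lower x hx0 hx, ?_⟩
  have h1 := lower x hx0 hx
  have h2 := lower (hjP c (j + 1) - x) (by omega) (by omega)
  have hlt : (t * x) % b < b := Int.emod_lt_of_pos _ hbpos
  have key : (t * (hjP c (j + 1) - x)) % b = sT p q m c (j + 1) - (t * x) % b + b := by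
    have e : t * (hjP c (j + 1) - x) = (sT p q m c (j + 1) - (t * x) % b + b) +
        b * (hjQ c (j + 1) - (t * x) / b - 1) := by
      simp only [sT, ← hb, ← ht]
      linear_combination Int.mul_ediv_add_emod (t * x) b
    rw [e, Int.add_mul_emod_self_left, Int.emod_eq_of_lt (by omega) (by omega)]
  rw [key] at h2
  show (t * x) % b ≤ _
  omega

theorem emod_hjP (hpq : p < q) (hcop : Nat.Coprime p q) (hm : 0 < m) {c : List ℤ}
    (hc : IsHJDigits p q m c) {i : ℕ} (hi : 1 ≤ i) (hir : i ≤ c.length) :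
    Int.emod ((tT p q m : ℤ) * hjP c i) (bB p q m) = sT p q m c i := by
  have e : (tT p q m : ℤ) * hjP c i = sT p q m c i + (bB p q m : ℤ) * hjQ c i := by
    simp only [sT]; ring
  show ((tT p q m : ℤ) * hjP c i) % (bB p q m : ℤ) = _
  rw [e, Int.add_mul_emod_self_left, Int.emod_eq_of_lt (sT_pos hpq hcop hm hc hir).le
    (sT_lt_b hpq hcop hm hc hi (by omega))]

theorem hjP_le_of_emod (hpq : p < q) (hcop : Nat.Coprime p q) (hm : 0 < m) {c : List ℤ}
    (hc : IsHJDigits p q m c) {i : ℕ} (hi : 1 ≤ i) (hir : i ≤ c.length) {x : ℤ} (hx : 0 < x)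
    (h : Int.emod ((tT p q m : ℤ) * x) (bB p q m) < sT p q m c (i - 1)) : hjP c i ≤ x := by
  by_contra hcon
  push Not at hcon
  rcases Nat.lt_or_ge 1 i with h1 | h1
  · have := (emod_bounds hpq hcop hm hc h1 hir hx hcon).1
    omega
  · have : i = 1 := by omega
    subst this
    simp [hjP] at hcon
    omega

theorem emod_pm (hpq : p < q) (hm : 0 < m) {x : ℤ}
    (hρ : 0 < Int.emod ((tT p q m : ℤ) * x) (bB p q m)) :
    Int.emod ((p : ℤ) * m * x) ((q : ℤ) - p) =
      (gcdK p q m : ℤ) * ((bB p q m : ℤ) - Int.emod ((tT p q m : ℤ) * x) (bB p q m)) := by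
  have h2 := subZ_eq_gb (p := p) (q := q) (m := m) hpq
  have h1 := pm_eq (p := p) (q := q) (m := m) hpq
  set t : ℤ := (tT p q m : ℤ) with ht
  set b : ℤ := (bB p q m : ℤ) with hb
  set g : ℤ := (gcdK p q m : ℤ) with hg
  have hρ' : 0 < (t * x) % b := hρ
  have hbpos : 0 < b := by have := bB_pos (p := p) (q := q) (m := m) hpq; omega
  have hgpos : 0 < g := by have := gcdK_pos (p := p) (q := q) hm; omega
  have hlt : (t * x) % b < b := Int.emod_lt_of_pos _ hbpos
  have e : (p : ℤ) * m * x = g * (b - (t * x) % b) +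
      ((q : ℤ) - p) * (((alpha p q m : ℤ) + 1) * x - (t * x) / b - 1) := by
    linear_combination x * h1 + g * Int.mul_ediv_add_emod (t * x) b + (1 + (t * x) / b) * h2
  show ((p : ℤ) * m * x) % _ = g * (b - (t * x) % b)
  rw [e, Int.add_mul_emod_self_left, Int.emod_eq_of_lt (by nlinarith) (by rw [h2]; nlinarith)]

theorem eE_eq (c : List ℤ) (i : ℕ) : eE p q m c i = lL p q m c i + (m : ℤ) * hjP c i := by
  simp only [eE, lL]; push_cast; ring

theorem lL_eq (c : List ℤ) (i : ℕ) :
    ((q : ℤ) - p) * lL p q m c i = nN p q m c i + (p : ℤ) * m * hjP c i := by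
  simp only [nN, eE, lL]; push_cast; ring

theorem lL_nonneg (hpq : p < q) (hcop : Nat.Coprime p q) (hm : 0 < m) {c : List ℤ}
    (hc : IsHJDigits p q m c) {i : ℕ} (hir : i ≤ c.length) : 0 ≤ lL p q m c i := by
  have h0 := (hjP_mono hc.1 i hir).1
  have h := lL_eq (p := p) (q := q) (m := m) c i
  rw [nN_eq hpq] at h
  have hs := (sT_pos hpq hcop hm hc hir).le
  by_contra hcon
  push Not at hcon
  have h1 : 0 ≤ (gcdK p q m : ℤ) * sT p q m c i + (p : ℤ) * m * hjP c i := by positivity
  nlinarith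

theorem eE_nonneg (hpq : p < q) (hcop : Nat.Coprime p q) (hm : 0 < m) {c : List ℤ}
    (hc : IsHJDigits p q m c) {i : ℕ} (hir : i ≤ c.length) : 0 ≤ eE p q m c i := by
  have h0 := (hjP_mono hc.1 i hir).1
  rw [eE_eq]
  have := lL_nonneg hpq hcop hm hc hir
  positivity

theorem nN_pos (hpq : p < q) (hcop : Nat.Coprime p q) (hm : 0 < m) {c : List ℤ}
    (hc : IsHJDigits p q m c) {i : ℕ} (hir : i ≤ c.length) : 0 < nN p q m c i := by
  rw [nN_eq hpq]
  have := sT_pos hpq hcop hm hc hir
  have := gcdK_pos (p := p) (q := q) hm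
  positivity

end Params

end Groth.Agent.Hilb2Inv37
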