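import Groth.Agent.Hilb2Inv37.Basic
import Groth.Agent.Hilb2Inv37.HJ

set_option autoImplicit false

namespace Groth.Agent.Hilb2Inv37

open MvPolynomial W4c2invhilbsl2

variable {k : Type*} [Field k] {p q m : ℕ}

theorem natCast_sub_eq (hpq : p < q) : ((q - p : ℕ) : ℤ) = (q : ℤ) - p := by
  push_cast [hpq.le]; rfl

/-- The image of the weight-zero piece times a fixed element. -/
noncomputable def gen {σ : Type*} (w : σ → ℤ × ZMod m) (g : MvPolynomial σ k) :
    Submodule k (MvPolynomial σ k) :=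
  (weightedHomogeneousSubmodule k w 0).map (LinearMap.mulRight k g)

theorem mem_gen {σ : Type*} {w : σ → ℤ × ZMod m} {g x : MvPolynomial σ k} :
    x ∈ gen w g ↔ ∃ a ∈ weightedHomogeneousSubmodule k w 0, a * g = x := by
  simp [gen, Submodule.mem_map]

theorem weight_tsub {σ : Type*} {w : σ → ℤ × ZMod m} {d g : σ →₀ ℕ} {ν : ℤ × ZMod m}
    (hd : Finsupp.weight w d = ν) (hle : g ≤ d) :
    Finsupp.weight w (d - g) = ν - Finsupp.weight w g := by
  rw [eq_sub_iff_add_eq, ← map_add, tsub_add_cancel_of_le hle, hd]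

theorem monomial_mem_gen {σ : Type*} {w : σ → ℤ × ZMod m} {d g : σ →₀ ℕ} {ν : ℤ × ZMod m}
    (hd : Finsupp.weight w d = ν) (hg : Finsupp.weight w g = ν) (hle : g ≤ d) :
    monomial d (1 : k) ∈ gen w (monomial g (1 : k)) := by
  refine mem_gen.mpr ⟨monomial (d - g) 1, monomial_mem_whs ?_, ?_⟩
  · rw [weight_tsub hd hle, hg, sub_self]
  · rw [monomial_mul, mul_one, tsub_add_cancel_of_le hle]

theorem fin3_le {g d : Fin 3 →₀ ℕ} (h0 : g 0 ≤ d 0) (h1 : g 1 ≤ d 1) (h2 : g 2 ≤ d 2) : g ≤ d := by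
  intro i; fin_cases i <;> assumption

theorem fin5_le {g d : Fin 5 →₀ ℕ} (h0 : g 0 ≤ d 0) (h1 : g 1 ≤ d 1) (h2 : g 2 ≤ d 2)
    (h3 : g 3 ≤ d 3) (h4 : g 4 ≤ d 4) : g ≤ d := by
  intro i; fin_cases i <;> assumption

/-- An exponent vector in three variables. -/
noncomputable def v3 (a b c : ℕ) : Fin 3 →₀ ℕ := Finsupp.equivFunOnFinite.symm ![a, b, c]

/-- An exponent vector in five variables. -/
noncomputable def v5 (a b c d e : ℕ) : Fin 5 →₀ ℕ := Finsupp.equivFunOnFinite.symm ![a, b, c, d, e]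

@[simp] theorem v3_0 (a b c : ℕ) : v3 a b c 0 = a := rfl
@[simp] theorem v3_1 (a b c : ℕ) : v3 a b c 1 = b := rfl
@[simp] theorem v3_2 (a b c : ℕ) : v3 a b c 2 = c := rfl
@[simp] theorem v5_0 (a b c d e : ℕ) : v5 a b c d e 0 = a := rfl
@[simp] theorem v5_1 (a b c d e : ℕ) : v5 a b c d e 1 = b := rfl
@[simp] theorem v5_2 (a b c d e : ℕ) : v5 a b c d e 2 = c := rfl
@[simp] theorem v5_3 (a b c d e : ℕ) : v5 a b c d e 3 = d := rfl
@[simp] theorem v5_4 (a b c d e : ℕ) : v5 a b c d e 4 = e := rfl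

theorem weight_sum_zero (n : ℤ) (c : ℤ) (hn : n = 0) (hc : (m : ℤ) ∣ c) :
    ((n, (c : ZMod m)) : ℤ × ZMod m) = 0 := by
  rw [Prod.mk_eq_zero, hn, ZMod.intCast_zmod_eq_zero_iff_dvd]; exact ⟨rfl, hc⟩

/-- Weight `(q - p, 0)` in (n, c) coordinates. -/
theorem qp_cases {d0 D1 D2 : ℕ} (hp : 0 < p) (hpq : p < q)
    (h : (d0 : ℤ) - p * D1 + q * D2 = (q : ℤ) - p) :
    (0 < D1 ∧ 0 < D2) ∨ q - p ≤ d0 := by
  rcases Nat.eq_zero_or_pos D1 with h1 | h1
  · subst h1
    rcases Nat.eq_zero_or_pos D2 with h2 | h2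
    · subst h2; push_cast at h; right; omega
    · exfalso
      push_cast at h
      nlinarith [show (q : ℤ) ≤ (q : ℤ) * D2 from le_mul_of_one_le_right (by omega) (by omega)]
  · rcases Nat.eq_zero_or_pos D2 with h2 | h2
    · subst h2
      push_cast at h
      right
      have : (q : ℤ) - p ≤ d0 := by nlinarith
      omega
    · exact Or.inl ⟨h1, h2⟩

/-- A monomial of weight `(nN i, 0)` is divisible by one of the two generators. -/
theorem ni_cases {d0 D1 D2 : ℕ} (hpq : p < q) (hcop : Nat.Coprime p q) (hm : 0 < m) {c : List ℤ}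
    (hc : IsHJDigits p q m c) {i : ℕ} (hi : 1 ≤ i) (hir : i ≤ c.length)
    (hn : (d0 : ℤ) - p * D1 + q * D2 = nN p q m c i) (hcm : (m : ℤ) ∣ (D1 : ℤ) - D2) :
    (nN p q m c i).toNat ≤ d0 ∨ ((eE p q m c i).toNat ≤ D1 ∧ (lL p q m c i).toNat ≤ D2) := by
  rcases le_or_gt (nN p q m c i).toNat d0 with h | h
  · exact Or.inl h
  right
  obtain ⟨x, hx⟩ := hcm
  have hnp := nN_pos hpq hcop hm hc hir
  have hd0 : (d0 : ℤ) < nN p q m c i := by omega
  have hgb := subZ_eq_gb (p := p) (q := q) (m := m) hpq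
  have hg : (0 : ℤ) < gcdK p q m := by have := gcdK_pos (p := p) (q := q) hm; omega
  have hlt : nN p q m c i < (q : ℤ) - p := by
    rw [hgb, nN_eq hpq]; exact mul_lt_mul_of_pos_left (sT_lt_b hpq hcop hm hc hi (by omega)) hg
  have hD : (0 : ℤ) < (q : ℤ) - p := by omega
  have heq : (d0 : ℤ) = (p : ℤ) * m * x + nN p q m c i - ((q : ℤ) - p) * D2 := by
    linear_combination hn + (p : ℤ) * hx
  have hx0 : 0 < x := by
    by_contra hcon
    push Not at hcon
    have h2 : (D1 : ℤ) ≤ D2 := by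
      have : (m : ℤ) * x ≤ 0 := mul_nonpos_of_nonneg_of_nonpos (by omega) hcon
      omega
    rcases Nat.eq_zero_or_pos D2 with h3 | h3
    · subst h3
      have h4 : D1 = 0 := by omega
      subst h4
      push_cast at hn
      omega
    · nlinarith
  have hP : hjP c i ≤ x := by
    by_contra hcon
    push Not at hcon
    rcases Nat.lt_or_ge 1 i with h1 | h1
    · obtain ⟨h2, -⟩ := emod_bounds hpq hcop hm hc h1 hir hx0 hcon
      have hlo : sT p q m c i < sT p q m c (i - 1) := by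
        have := (sT_props hpq hcop hm hc).1 (i - 1) (by omega)
        rwa [Nat.sub_add_cancel hi] at this
      have hsp := sT_pos hpq hcop hm hc hir
      have h3 := emod_pm (p := p) (q := q) (m := m) hpq hm (x := x) (by omega)
      have h4 : ((p : ℤ) * m * x) % ((q : ℤ) - p) + nN p q m c i < (q : ℤ) - p := by
        rw [show ((p : ℤ) * m * x) % ((q : ℤ) - p) = Int.emod ((p : ℤ) * m * x) ((q : ℤ) - p) from rfl,
          h3, hgb, nN_eq hpq]
        nlinarith
      have h5 : ((p : ℤ) * m * x + nN p q m c i - ((q : ℤ) - p) * D2) % ((q : ℤ) - p) = d0 := by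
        rw [← heq]; exact Int.emod_eq_of_lt (by omega) (by omega)
      rw [Int.sub_mul_emod_self_left, ← Int.emod_add_emod,
        Int.emod_eq_of_lt (by have := Int.emod_nonneg ((p : ℤ) * m * x) hD.ne'; omega) h4] at h5
      have := Int.emod_nonneg ((p : ℤ) * m * x) hD.ne'
      omega
    · have : i = 1 := by omega
      subst this
      simp [hjP] at hcon
      omega
  have hl : lL p q m c i ≤ (D2 : ℤ) := by
    have h1 := lL_eq (p := p) (q := q) (m := m) c i
    by_contra hcon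
    push Not at hcon
    have h2 : ((q : ℤ) - p) * ((D2 : ℤ) + 1) ≤ ((q : ℤ) - p) * lL p q m c i :=
      mul_le_mul_of_nonneg_left hcon (by omega)
    nlinarith [mul_le_mul_of_nonneg_left hP (show (0 : ℤ) ≤ (p : ℤ) * m by positivity)]
  refine ⟨?_, by omega⟩
  have : eE p q m c i ≤ (D1 : ℤ) := by
    rw [eE_eq]
    have := mul_le_mul_of_nonneg_left hP (show (0 : ℤ) ≤ (m : ℤ) by omega)
    linarith
  omega

/-- The three-variable part of `k[X₀,…,X₄]` used for the two families of ideals. -/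
theorem good_unique (hpq : p < q) (hcop : Nat.Coprime p q) (hm : 0 < m) {c : List ℤ}
    (hc : IsHJDigits p q m c) {i : ℕ} (hi : 1 ≤ i) (hir : i ≤ c.length) {d0 d1 d2 e0 e1 e2 : ℕ}
    (hd : d0 < (nN p q m c (i - 1)).toNat) (he : e0 < (nN p q m c (i - 1)).toNat)
    (hn : (e0 : ℤ) - p * e1 + q * e2 = (d0 : ℤ) - p * d1 + q * d2)
    {x : ℤ} (hx : 0 ≤ x) (hxe : ((d1 : ℤ) - d2) - ((e1 : ℤ) - e2) = m * x) :
    (d0 = e0 ∧ d1 = e1 ∧ d2 = e2) ∨
      ((eE p q m c i).toNat ≤ d1 ∧ (lL p q m c i).toNat ≤ d2) ∨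
      (∃ u0 u1 u2 : ℕ, u0 ≤ d0 ∧ u1 ≤ d1 ∧ u2 ≤ d2 ∧ (u0 + u1 + u2 ≠ 0) ∧
        (u0 : ℤ) - p * u1 + q * u2 = 0 ∧ (m : ℤ) ∣ (u2 : ℤ) - u1) := by
  have hgb := subZ_eq_gb (p := p) (q := q) (m := m) hpq
  have hg : (0 : ℤ) < gcdK p q m := by have := gcdK_pos (p := p) (q := q) hm; omega
  have hnp := nN_pos hpq hcop hm hc (i := i - 1) (by omega)
  have hnb : nN p q m c (i - 1) ≤ (q : ℤ) - p := by
    rw [hgb, nN_eq hpq]
    refine mul_le_mul_of_nonneg_left ?_ hg.le
    rw [← sT_zero (p := p) (q := q) (m := m) c]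
    exact sT_antitone hpq hcop hm hc (Nat.zero_le _) (by omega)
  have hD : (0 : ℤ) < (q : ℤ) - p := by omega
  set y : ℤ := (d0 : ℤ) - e0 with hy
  set z : ℤ := (d2 : ℤ) - e2 with hz
  have h1 : (d1 : ℤ) - e1 = (m : ℤ) * x + z := by rw [← hxe, hz]; ring
  have key : ((q : ℤ) - p) * z = (p : ℤ) * m * x - y := by
    rw [hy, hz]; linear_combination (-1 : ℤ) * hn + (p : ℤ) * hxe
  rcases le_or_gt 0 y with hy0 | hy0
  · have hz0 : 0 ≤ z := by
      by_contra hcon
      push Not at hcon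
      have : ((q : ℤ) - p) * z ≤ ((q : ℤ) - p) * (-1) := mul_le_mul_of_nonneg_left (by omega) hD.le
      have : 0 ≤ (p : ℤ) * m * x := by positivity
      omega
    rcases eq_or_ne (y + ((m : ℤ) * x + z) + z) 0 with h0 | h0
    · left
      have : 0 ≤ (m : ℤ) * x := by positivity
      omega
    · right; right
      have : 0 ≤ (m : ℤ) * x := by positivity
      refine ⟨y.toNat, ((m : ℤ) * x + z).toNat, z.toNat, by omega, by omega, by omega, by omega, ?_, ?_⟩
      · rw [Int.toNat_of_nonneg hy0, Int.toNat_of_nonneg (by omega), Int.toNat_of_nonneg hz0]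
        linear_combination key
      · rw [Int.toNat_of_nonneg hz0, Int.toNat_of_nonneg (show 0 ≤ (m : ℤ) * x + z by omega)]
        exact ⟨-x, by ring⟩
  · right; left
    have hzpos : 0 < z := by
      by_contra hcon
      push Not at hcon
      have : ((q : ℤ) - p) * z ≤ 0 := mul_nonpos_of_nonneg_of_nonpos hD.le hcon
      have : 0 ≤ (p : ℤ) * m * x := by positivity
      omega
    have hpm := pm_eq (p := p) (q := q) (m := m) hpq
    set g : ℤ := (gcdK p q m : ℤ) with hg'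
    set b : ℤ := (bB p q m : ℤ) with hb'
    set t : ℤ := (tT p q m : ℤ) with ht'
    obtain ⟨w, hw⟩ : g ∣ -y := by
      refine ⟨b * (z - ((alpha p q m : ℤ) + 1) * x) + t * x, ?_⟩
      linear_combination (-1 : ℤ) * key - x * hpm + (z - ((alpha p q m : ℤ) + 1) * x) * hgb
    have hw0 : 0 < w := by
      have : 0 < g * w := by omega
      exact pos_of_mul_pos_right this hg.le
    have hwlt : w < sT p q m c (i - 1) := by
      refine lt_of_mul_lt_mul_left ?_ hg.le
      rw [← hw, ← nN_eq hpq]; omega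
    have hwb : w < b := by
      have : g * w < g * b := by rw [← hw, ← hgb]; omega
      exact lt_of_mul_lt_mul_left this hg.le
    have htx : t * x = w + b * (((alpha p q m : ℤ) + 1) * x - z) := by
      apply mul_left_cancel₀ hg.ne'
      linear_combination key + x * hpm + hw - (z - ((alpha p q m : ℤ) + 1) * x) * hgb
    have hx0 : 0 < x := by
      rcases eq_or_lt_of_le hx with h | h
      · exfalso
        subst h
        have : ((q : ℤ) - p) * 1 ≤ ((q : ℤ) - p) * z := mul_le_mul_of_nonneg_left hzpos hD.le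
        omega
      · exact h
    have hP : hjP c i ≤ x := by
      refine hjP_le_of_emod hpq hcop hm hc hi hir hx0 ?_
      show (t * x) % b < _
      rw [htx, Int.add_mul_emod_self_left, Int.emod_eq_of_lt hw0.le hwb]
      exact hwlt
    have hl : lL p q m c i ≤ z := by
      have h2 := lL_eq (p := p) (q := q) (m := m) c i
      have h3 : nN p q m c i < (q : ℤ) - p := by
        rw [hgb, nN_eq hpq]; exact mul_lt_mul_of_pos_left (sT_lt_b hpq hcop hm hc hi (by omega)) hg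
      by_contra hcon
      push Not at hcon
      have h4 : ((q : ℤ) - p) * (z + 1) ≤ ((q : ℤ) - p) * lL p q m c i :=
        mul_le_mul_of_nonneg_left hcon hD.le
      linarith [mul_le_mul_of_nonneg_left hP (show (0 : ℤ) ≤ (p : ℤ) * m by positivity)]
    have he' : eE p q m c i ≤ (m : ℤ) * x + z := by
      rw [eE_eq]
      linarith [mul_le_mul_of_nonneg_left hP (show (0 : ℤ) ≤ (m : ℤ) by omega)]
    exact ⟨by omega, by omega⟩

/-- Monomials outside the leading ideal of `idealL`. -/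
def Good (p q m : ℕ) (c : List ℤ) (i : ℕ) (d : Fin 3 →₀ ℕ) : Prop :=
  d 0 < (nN p q m c (i - 1)).toNat ∧
    ¬ ((eE p q m c i).toNat ≤ d 1 ∧ (lL p q m c i).toNat ≤ d 2) ∧
    ¬ ∃ u : Fin 3 →₀ ℕ, u ≠ 0 ∧ u ≤ d ∧ Finsupp.weight (wt3 p q m) u = 0

theorem Good.eq (hpq : p < q) (hcop : Nat.Coprime p q) (hm : 0 < m) {c : List ℤ}
    (hc : IsHJDigits p q m c) {i : ℕ} (hi : 1 ≤ i) (hir : i ≤ c.length) {d e : Fin 3 →₀ ℕ}
    (hd : Good p q m c i d) (he : Good p q m c i e)
    (hw : Finsupp.weight (wt3 p q m) d = Finsupp.weight (wt3 p q m) e) : d = e := by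
  rw [wt3_weight, wt3_weight, Prod.ext_iff] at hw
  obtain ⟨h1, h2⟩ := hw
  have h2' := (ZMod.intCast_eq_intCast_iff_dvd_sub _ _ _).mp h2
  obtain ⟨x, hx⟩ := h2'
  have main : ∀ (d e : Fin 3 →₀ ℕ) (x : ℤ), Good p q m c i d → Good p q m c i e → 0 ≤ x →
      ((e 0 : ℤ) - p * e 1 + q * e 2 = (d 0 : ℤ) - p * d 1 + q * d 2) →
      ((d 1 : ℤ) - d 2) - ((e 1 : ℤ) - e 2) = m * x → d = e := by
    intro d e x hd he hx hn hxe
    rcases good_unique hpq hcop hm hc hi hir hd.1 he.1 hn hx hxe with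
      ⟨a, b, a'⟩ | h | ⟨u0, u1, u2, l0, l1, l2, hne, hu, hum⟩
    · ext j; fin_cases j <;> assumption
    · exact absurd h hd.2.1
    · refine absurd ⟨v3 u0 u1 u2, ?_, fin3_le l0 l1 l2, ?_⟩ hd.2.2
      · intro h
        apply hne
        have e0 := DFunLike.congr_fun h 0
        have e1 := DFunLike.congr_fun h 1
        have e2 := DFunLike.congr_fun h 2
        simp only [v3_0, v3_1, v3_2, Finsupp.zero_apply] at e0 e1 e2
        omega
      · rw [wt3_weight]
        exact Prod.mk_eq_zero.mpr ⟨hu, (ZMod.intCast_zmod_eq_zero_iff_dvd _ _).mpr hum⟩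
  rcases le_total 0 x with h | h
  · exact main d e x hd he h h1.symm (by linarith)
  · exact (main e d (-x) he hd (by omega) h1 (by linarith)).symm

theorem idealL_rank (hpq : p < q) (hcop : Nat.Coprime p q) (hm : 0 < m) {c : List ℤ}
    (hc : IsHJDigits p q m c) {i : ℕ} (hi : 1 ≤ i) (hir : i ≤ c.length) (s : k)
    (ν : ℤ × ZMod m) :
    Module.rank k (piece k (wt3 p q m) (idealL k p q m c i s) ν) ≤ 1 := by
  classical
  set v : MvPolynomial (Fin 3) k ⧸ idealL k p q m c i s :=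
    if h : ∃ d, Good p q m c i d ∧ Finsupp.weight (wt3 p q m) d = ν then
      Ideal.Quotient.mk _ (monomial h.choose (1 : k)) else 0 with hv
  refine piece_rank_le_one v ?_
  intro d
  induction hN : d 1 + d 2 using Nat.strong_induction_on generalizing d with
  | _ N ih =>
  intro hd
  by_cases hgood : Good p q m c i d
  · have h : ∃ d, Good p q m c i d ∧ Finsupp.weight (wt3 p q m) d = ν := ⟨d, hgood, hd⟩
    have : d = h.choose := Good.eq hpq hcop hm hc hi hir hgood h.choose_spec.1 (hd.trans h.choose_spec.2.symm)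
    rw [hv, dif_pos h, ← this]
    exact Submodule.mem_span_singleton_self _
  have hzero : monomial d (1 : k) ∈ idealL k p q m c i s →
      Ideal.Quotient.mk (idealL k p q m c i s) (monomial d (1 : k)) ∈ Submodule.span k {v} := fun h => by
    rw [Ideal.Quotient.eq_zero_iff_mem.mpr h]; exact zero_mem _
  by_cases hA : (nN p q m c (i - 1)).toNat ≤ d 0
  · refine hzero ?_
    rw [monomial3]
    refine Ideal.mul_mem_right _ _ (Ideal.mul_mem_right _ _ ?_)
    have : (X 0 : MvPolynomial (Fin 3) k) ^ (nN p q m c (i - 1)).toNat ∈ idealL k p q m c i s :=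
      Ideal.mem_sup_left (Ideal.subset_span (Set.mem_insert _ _))
    rw [← Nat.sub_add_cancel hA, pow_add]
    exact Ideal.mul_mem_left _ _ this
  by_cases hK : ∃ u : Fin 3 →₀ ℕ, u ≠ 0 ∧ u ≤ d ∧ Finsupp.weight (wt3 p q m) u = 0
  · obtain ⟨u, hu0, hud, hu⟩ := hK
    refine hzero ?_
    have h1 : monomial d (1 : k) = monomial (d - u) 1 * monomial u 1 := by
      rw [monomial_mul, mul_one, tsub_add_cancel_of_le hud]
    rw [h1]
    exact Ideal.mul_mem_left _ _ (Ideal.mem_sup_right (Ideal.subset_span ⟨u, hu0, hu, rfl⟩))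
  have hB : (eE p q m c i).toNat ≤ d 1 ∧ (lL p q m c i).toNat ≤ d 2 := by
    by_contra h
    exact hgood ⟨by omega, h, hK⟩
  have he0 := eE_nonneg hpq hcop hm hc hir
  have hl0 := lL_nonneg hpq hcop hm hc hir
  have hn0 := (nN_pos hpq hcop hm hc hir).le
  set E := (eE p q m c i).toNat with hE
  set L := (lL p q m c i).toNat with hL
  set Nn := (nN p q m c i).toNat with hNn
  set d' := v3 (d 0 + Nn) (d 1 - E) (d 2 - L) with hd'
  have hEpos : 0 < eE p q m c i := by
    rw [eE_eq]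
    obtain ⟨j, rfl⟩ : ∃ j, i = j + 1 := ⟨i - 1, by omega⟩
    obtain ⟨hp0, hp1⟩ := hjP_mono hc.1 j (by omega)
    nlinarith
  have hcong : Ideal.Quotient.mk (idealL k p q m c i s) (monomial d (1 : k)) =
      s • Ideal.Quotient.mk (idealL k p q m c i s) (monomial d' (1 : k)) := by
    rw [← Ideal.Quotient.mkₐ_eq_mk k, ← map_smul, Ideal.Quotient.mkₐ_eq_mk, Ideal.Quotient.eq]
    have : (C s * X 0 ^ Nn - X 1 ^ E * X 2 ^ L : MvPolynomial (Fin 3) k) ∈ idealL k p q m c i s :=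
      Ideal.mem_sup_left (Ideal.subset_span (Set.mem_insert_of_mem _ rfl))
    have h2 := Ideal.mul_mem_left _ (-(X 0 ^ d 0 * X 1 ^ (d 1 - E) * X 2 ^ (d 2 - L))) this
    convert h2 using 1
    rw [monomial3 d, monomial3 d', smul_eq_C_mul, hd', v3_0, v3_1, v3_2]
    rw [show (X 1 : MvPolynomial (Fin 3) k) ^ d 1 = X 1 ^ (d 1 - E) * X 1 ^ E by
        rw [← pow_add, Nat.sub_add_cancel hB.1],
      show (X 2 : MvPolynomial (Fin 3) k) ^ d 2 = X 2 ^ (d 2 - L) * X 2 ^ L by
        rw [← pow_add, Nat.sub_add_cancel hB.2], pow_add]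
    ring
  rw [hcong]
  refine Submodule.smul_mem _ _ (ih (d' 1 + d' 2) ?_ d' rfl ?_)
  · rw [hd', v3_1, v3_2]; omega
  · rw [← hd, wt3_weight, wt3_weight, hd', v3_0, v3_1, v3_2]
    rw [Nat.cast_add, Nat.cast_sub hB.1, Nat.cast_sub hB.2, hE, hL, hNn,
      Int.toNat_of_nonneg he0, Int.toNat_of_nonneg hl0, Int.toNat_of_nonneg hn0]
    refine Prod.ext ?_ ?_
    · simp only [nN]; ring
    · simp only
      rw [ZMod.intCast_eq_intCast_iff_dvd_sub]
      exact ⟨-hjP c i, by rw [eE_eq]; ring⟩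

/-- A form of weight minimisation: among monomials of a fixed weight, the value c is bounded below. -/
theorem exists_min_c (hpq : p < q) (hp : 0 < p) {ι : Type*} (S : Set ι) (hS : S.Nonempty)
    (f0 f1 f2 : ι → ℕ) (n : ℤ) (h : ∀ d ∈ S, (f0 d : ℤ) - p * f1 d + q * f2 d = n) :
    ∃ e ∈ S, ∀ d ∈ S, (f1 e : ℤ) - f2 e ≤ (f1 d : ℤ) - f2 d := by
  obtain ⟨d, hd⟩ := hS
  have hb : ∀ z : ℤ, (∃ d ∈ S, (f1 d : ℤ) - f2 d = z) → -|n| ≤ z := by
    rintro z ⟨d, hd, rfl⟩
    by_contra hcon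
    push Not at hcon
    have := h d hd
    have h1 : (p : ℤ) * ((f1 d : ℤ) - f2 d + 1) ≤ (p : ℤ) * (-|n|) :=
      mul_le_mul_of_nonneg_left hcon (by omega)
    have h2 : (0 : ℤ) ≤ ((q : ℤ) - p) * f2 d := mul_nonneg (by omega) (by omega)
    have h3 : |n| ≤ (p : ℤ) * |n| := le_mul_of_one_le_left (abs_nonneg n) (by omega)
    linarith [le_abs_self n]
  obtain ⟨z, ⟨e, he, rfl⟩, hz⟩ := Int.exists_least_of_bdd
    (P := fun z => ∃ d ∈ S, (f1 d : ℤ) - f2 d = z) ⟨-|n|, hb⟩ ⟨_, d, hd, rfl⟩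
  exact ⟨e, he, fun d hd => hz _ ⟨d, hd, rfl⟩⟩

end Groth.Agent.Hilb2Inv37
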